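import Groth.Agent.ParaFTower.CI
import Groth.Agent.ParaFTower.Pic
import Groth.Agent.ParaFUFD.Criterion
import Groth.Agent.ParaFUFD.Punctured

/-!
# Samuel's conjecture
-/

set_option autoImplicit false
set_option backward.isDefEq.respectTransparency false
set_option backward.isDefEq.respectTransparency.types false
set_option linter.style.haveILetI false
set_option maxHeartbeats 1000000

noncomputable section

universe u

open IsLocalRing RingTheory.Sequence

namespace Groth.Agent.ParaFTower

/-- depth and trivial Picard group of the punctured spectrum for complete intersections of dimension four -/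
theorem picTrivial_of_ci (A : Type u) [CommRing A] [IsNoetherianRing A] [IsLocalRing A] (B : Type u) [CommRing B]
    [IsRegularLocalRing B] (rs : List B) (hm : ∀ r ∈ rs, r ∈ maximalIdeal B) (hreg : IsRegular B rs)
    (e : A ≃+* B ⧸ Ideal.ofList rs) (hd : (4 : WithBot ℕ∞) ≤ ringKrullDim A) :
    (2 : ℕ∞) ≤ LocCoh.depth A A ∧ ParaF.PicTrivial (FEt.puncturedSpec A : AlgebraicGeometry.Scheme.{u}) := by
  obtain ⟨d, hdB⟩ := CAlgReg.exists_dim (R := B)
  haveI := e.isLocalRing
  have hk : rs.length + 4 ≤ d := by
    rw [ringKrullDim_eq_of_ringEquiv e] at hd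
    have h2 := ringKrullDim_add_length_eq_ringKrullDim_of_isRegular rs hreg
    rw [hdB] at h2
    obtain ⟨a, ha⟩ := CAlgReg.exists_dim (R := B ⧸ Ideal.ofList rs)
    rw [ha] at h2 hd
    have h2' : a + rs.length = d := by exact_mod_cast h2
    have h3 : 4 ≤ a := by exact_mod_cast hd
    omega
  have h4 := depth_quot_le (n := 4) hdB rs hreg.toIsWeaklyRegular hm hk
  have h2 : (2 : ℕ∞) ≤ LocCoh.depth A A := by
    rw [SerreLift.depth_eq_of_ringEquiv e]
    exact le_trans (by norm_num) h4
  refine ⟨h2, ?_⟩
  obtain ⟨x, y, hx, hy, hp⟩ := exists_regPair (A := A) h2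
  exact picTrivial_of_ppi hx hp.reg (ppi_of_ppf (ppf_of_ringEquiv e.symm hx hy hp
    (ppf_quot_regular rs.length B d rs hdB rfl hreg.toIsWeaklyRegular hm hk)) hx hy hp)

theorem domain_ufd_of_ringEquiv {S T : Type u} [CommRing S] [CommRing T] (e : S ≃+* T)
    (h : IsDomain S ∧ UniqueFactorizationMonoid S) : IsDomain T ∧ UniqueFactorizationMonoid T := by
  haveI := h.1
  haveI := h.2
  haveI : IsDomain T := MulEquiv.isDomain S e.symm.toMulEquiv
  exact ⟨inferInstance, e.toMulEquiv.uniqueFactorizationMonoid inferInstance⟩

/-- complete intersections factorial in codimension three are factorial -/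
theorem ufd_quot_regular (B : Type u) [CommRing B] [IsRegularLocalRing B] (rs : List B)
    (hm : ∀ r ∈ rs, r ∈ maximalIdeal B) (hreg : IsWeaklyRegular B rs)
    (h : ∀ p : Ideal (B ⧸ Ideal.ofList rs), ∀ _ : p.IsPrime, p.height ≤ 3 →
      IsDomain (Localization.AtPrime p) ∧ UniqueFactorizationMonoid (Localization.AtPrime p)) :
    ∀ (n : ℕ) (p : Ideal (B ⧸ Ideal.ofList rs)), ∀ _ : p.IsPrime, p.height ≤ n →
      IsDomain (Localization.AtPrime p) ∧ UniqueFactorizationMonoid (Localization.AtPrime p) := by
  intro n
  induction n with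
  | zero => exact fun p hp hh => h p hp (hh.trans (by norm_num))
  | succ n ih =>
    intro p hp hh
    by_cases h3 : p.height ≤ 3
    · exact h p hp h3
    push Not at h3
    haveI := hp
    let A := B ⧸ Ideal.ofList rs
    let Ap := Localization.AtPrime p
    haveI : IsNoetherianRing Ap := IsLocalization.isNoetherianRing p.primeCompl _ inferInstance
    let Q : Ideal B := p.comap (Ideal.Quotient.mk (Ideal.ofList rs))
    have hQI : Ideal.ofList rs ≤ Q := fun y hy => by
      show Ideal.Quotient.mk _ y ∈ p
      rw [Ideal.Quotient.eq_zero_iff_mem.2 hy]; exact p.zero_mem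
    let BQ := Localization.AtPrime Q
    haveI : IsRegularLocalRing BQ := RegUFD.isRegularLocalRing_atPrime B Q
    let rsQ := rs.map (algebraMap B BQ)
    have hofl : Ideal.ofList rsQ = (Ideal.ofList rs).map (algebraMap B BQ) := (Ideal.map_ofList _ _).symm
    have hrsQ : ∀ r ∈ rsQ, r ∈ maximalIdeal BQ := by
      intro r hr
      obtain ⟨r, hr', rfl⟩ := List.mem_map.1 hr
      rw [← Localization.AtPrime.map_eq_maximalIdeal (I := Q)]
      exact Ideal.mem_map_of_mem _ (hQI (Ideal.subset_span hr'))
    have hregQ : IsRegular BQ rsQ :=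
      Depth.isRegular_of_isWeaklyRegular (I := maximalIdeal BQ)
        (Depth.smul_top_ne_top_self (maximalIdeal.isMaximal _).ne_top) (IsWeaklyRegular.of_flat (S := BQ) hreg) hrsQ
    let S := BQ ⧸ (Ideal.ofList rs).map (algebraMap B BQ)
    have hsub : Algebra.algebraMapSubmonoid A Q.primeCompl = p.primeCompl := by
      ext x
      constructor
      · rintro ⟨y, hy, rfl⟩; exact hy
      · obtain ⟨x, rfl⟩ := Ideal.Quotient.mk_surjective x
        exact fun hx => ⟨x, hx, rfl⟩
    haveI : IsLocalization.AtPrime S p := by
      show IsLocalization p.primeCompl S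
      rw [← hsub]; infer_instance
    let e : Ap ≃+* BQ ⧸ Ideal.ofList rsQ :=
      (IsLocalization.algEquiv p.primeCompl Ap S).toRingEquiv.trans (Ideal.quotEquivOfEq hofl).symm
    obtain ⟨hd, hpic⟩ := picTrivial_of_ci Ap BQ rsQ hrsQ hregQ e (by
      rw [IsLocalization.AtPrime.ringKrullDim_eq_height p]
      exact WithBot.coe_le_coe.2 (Order.add_one_le_of_lt h3))
    have hU : ∀ y : PrimeSpectrum Ap, y ≠ closedPoint Ap →
        IsDomain (Localization.AtPrime y.asIdeal) ∧ UniqueFactorizationMonoid (Localization.AtPrime y.asIdeal) := by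
      intro y hy
      let p' := y.asIdeal.under A
      have hle : p' < p := by
        refine lt_of_le_of_ne (fun r hr => by_contra fun hrp => y.isPrime.ne_top
          (Ideal.eq_top_of_isUnit_mem _ hr (IsLocalization.map_units Ap (⟨r, hrp⟩ : p.primeCompl)))) fun he => hy ?_
        refine PrimeSpectrum.ext ?_
        show y.asIdeal = maximalIdeal Ap
        rw [← IsLocalization.map_under p.primeCompl Ap y.asIdeal, show y.asIdeal.under A = p from he,
          Localization.AtPrime.map_eq_maximalIdeal]
      haveI : p'.FiniteHeight := inferInstance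
      have hlt : p'.height ≤ n := by
        have := (Ideal.height_strict_mono_of_isPrime hle).trans_le hh
        rw [Nat.cast_add, Nat.cast_one] at this
        exact ENat.lt_add_one_iff (ENat.natCast_ne_top n) |>.1 this
      haveI : IsLocalization.AtPrime (Localization.AtPrime y.asIdeal) p' :=
        IsLocalization.isLocalization_isLocalization_atPrime_isLocalization p.primeCompl
          (Localization.AtPrime y.asIdeal) y.asIdeal
      exact domain_ufd_of_ringEquiv (T := Localization.AtPrime y.asIdeal)
        (IsLocalization.algEquiv p'.primeCompl (Localization.AtPrime p') (Localization.AtPrime y.asIdeal)).toRingEquiv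
        (ih p' inferInstance hlt)
    haveI hdom : IsDomain Ap := ParaFUFD.isDomain_of_punctured hd fun y hy => (hU y hy).1
    exact ⟨hdom, ParaFUFD.ufd_of_punctured hd (fun y hy => (hU y hy).2) hpic⟩

end Groth.Agent.ParaFTower
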